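import Mathlib
import Cfsg.Prelude.Def_Classical
import Cfsg.Agent.Lib.Helper50.CC.HYPP

set_option autoImplicit false

namespace Cfsg.Agent.Lib.Helper50.CC

open Polynomial Matrix

variable {F : Type*} [Field F]

/-- `M ↦ diag(1, M)` as a monoid hom of matrices. -/
def hypoR (α β : Type) [Fintype α] [DecidableEq α] [Fintype β] [DecidableEq β] :
    Matrix α α F →* Matrix (β ⊕ α) (β ⊕ α) F where
  toFun M := fromBlocks 1 0 0 M
  map_one' := fromBlocks_one
  map_mul' A B := by
    simp [fromBlocks_multiply]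

theorem hypoR_injective (α β : Type) [Fintype α] [DecidableEq α] [Fintype β] [DecidableEq β] :
    Function.Injective (Units.map (hypoR (F := F) α β)) := by
  intro A B h
  have h1 : (Units.map (hypoR (F := F) α β) A).1 = (Units.map (hypoR (F := F) α β) B).1 := by
    rw [h]
  have h2 : fromBlocks (1 : Matrix β β F) 0 0 A.1 = fromBlocks 1 0 0 B.1 := h1
  rw [fromBlocks_inj] at h2
  exact Units.ext h2.2.2.2

/-- HYPO. -/
theorem hyp_odd (k : ℕ) (A : Matrix.GeneralLinearGroup (Fin k) F) :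
    ∃ g : ↥(Cfsg.isometryGroup F (Cfsg.quadFormOdd k F)), orderOf g = orderOf A ∧
      (g.1.1 : Matrix _ _ F).charpoly = (A : Matrix (Fin k) (Fin k) F).charpoly *
        (((A⁻¹ : Matrix.GeneralLinearGroup (Fin k) F) : Matrix (Fin k) (Fin k) F)ᵀ).charpoly * (X - 1) ^ 1 := by
  obtain ⟨g, h1, h2⟩ := hypp_gen (Cfsg.quadFormOdd k F)
    ((Units.map (hypoR (F := F) (Fin k ⊕ Fin k) Unit)).comp (hyppD k))
    ((hypoR_injective _ _).comp (hyppD_injective k))
    (fun A v => by
      have hv : (((Units.map (hypoR (F := F) (Fin k ⊕ Fin k) Unit)).comp (hyppD k)) A).1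
          = fromBlocks 1 0 0 (hyppD k A).1 := rfl
      rw [hv, fromBlocks_mulVec]
      have h := hyppD_sum k A (v ∘ Sum.inr)
      unfold Cfsg.quadFormOdd
      simp only [zero_mulVec, add_zero, zero_add, one_mulVec, Sum.elim_inl, Sum.elim_inr,
        Function.comp_apply] at h ⊢
      rw [h]) A
  refine ⟨g, h1, ?_⟩
  have hv : (((Units.map (hypoR (F := F) (Fin k ⊕ Fin k) Unit)).comp (hyppD k)) A).1
      = fromBlocks 1 0 0 (hyppD k A).1 := rfl
  rw [h2, hv, charpoly_fromBlocks_zero₁₂, hyppD_charpoly, charpoly_one, Fintype.card_unit, mul_comm]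

end Cfsg.Agent.Lib.Helper50.CC
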